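import Groth.Prelude.Def_W4c5normfunctorschNorm
import Groth.Agent.H22Alg.PolLawTS
import Mathlib

/-!
# The map attached to the norm commutes with base change
-/

set_option autoImplicit false
set_option linter.style.haveILetI false
universe u

open scoped TensorProduct

noncomputable section

namespace Groth.Agent.H27PolLaw

variable {R R' Q Q' : Type u} [CommRing R] [CommRing R'] [Algebra R R'] [CommRing Q] [Algebra R Q]
  [CommRing Q'] [Algebra R Q'] [Algebra Q Q'] [Algebra R' Q'] [IsScalarTower R Q Q'] [IsScalarTower R R' Q']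

theorem bcAlong_tmul {X Y : Type u} [AddCommGroup X] [Module R X] [AddCommGroup Y] [Module R Y] [Module Q Y]
    [IsScalarTower R Q Y] (g : X →ₗ[R] Y) (P : Type u) [CommRing P] [Algebra R P] [Algebra Q P]
    [IsScalarTower R Q P] (q : P) (x : X) : PolLaw.bcAlong g P (q ⊗ₜ[R] x) = q ⊗ₜ[Q] g x := by
  simp [PolLaw.bcAlong]

/-- extending scalars of a pushout -/
theorem exists_pushoutEquiv [Algebra.IsPushout R R' Q Q'] (P : Type u) [CommRing P] [Algebra R P] [Algebra Q P]
    [IsScalarTower R Q P] : ∃ e : P ⊗[R] R' ≃ₐ[P] P ⊗[Q] Q', ∀ q (a : R'),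
      e (q ⊗ₜ[R] a) = q ⊗ₜ[Q] algebraMap R' Q' a := by
  haveI : Algebra.IsPushout R Q R' Q' := Algebra.IsPushout.symm inferInstance
  refine ⟨(Algebra.TensorProduct.cancelBaseChange R Q P P R').symm.trans
    (Algebra.TensorProduct.congr AlgEquiv.refl (Algebra.IsPushout.equiv R Q R' Q')), fun q a => ?_⟩
  simp [Algebra.IsPushout.equiv_tmul]

theorem normMap_baseChange [Algebra.IsPushout R R' Q Q'] [Module.Free R R'] [Module.Finite R R'] [Module.Free Q Q']
    [Module.Finite Q Q'] (d : ℕ) (hd : Module.finrank R R' = d) (hd' : Module.finrank Q Q' = d)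
    {C : Type u} [CommRing C] [Algebra R C] (γ : PolLaw.MulLaw R R' C d) (hγ : PolLaw.IsGammaD γ)
    (π : C →ₐ[R] R) (hπ : PolLaw.MulLaw.postcomp π γ = PolLaw.normLaw R R' d hd)
    {C' : Type u} [CommRing C'] [Algebra R C'] [Algebra Q C'] [IsScalarTower R Q C']
    (γ' : PolLaw.MulLaw Q Q' C' d)
    (π' : C' →ₐ[Q] Q) (hπ' : PolLaw.MulLaw.postcomp π' γ' = PolLaw.normLaw Q Q' d hd')
    (θ : C →ₐ[R] C')
    (hθ : ∀ (P : Type u) [CommRing P] [Algebra R P] [Algebra Q P] [IsScalarTower R Q P] (z : P ⊗[R] R'),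
      γ'.law.toFun' P (PolLaw.bcAlong (IsScalarTower.toAlgHom R R' Q').toLinearMap P z) =
        PolLaw.bcAlong θ.toLinearMap P (γ.law.toFun' P z)) :
    ∀ c : C, π' (θ c) = algebraMap R Q (π c) := by
  let f1 : C →ₐ[R] Q := (π'.restrictScalars R).comp θ
  let f2 : C →ₐ[R] Q := (Algebra.ofId R Q).comp π
  suffices h : f1 = f2 from fun c => AlgHom.congr_fun h c
  suffices h : PolLaw.MulLaw.postcomp f1 γ = PolLaw.MulLaw.postcomp f2 γ from
    (hγ Q (PolLaw.MulLaw.postcomp f2 γ)).unique (congrArg PolLaw.MulLaw.law h) rfl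
  refine H22Alg.PL.law_ext fun S _ _ z => ?_
  letI : CommRing S := { Algebra.semiringToRing R, ‹CommSemiring S› with }
  refine (TensorProduct.comm R S Q).injective ?_
  let P := Q ⊗[R] S
  let incl : S →ₐ[R] P := Algebra.TensorProduct.includeRight
  let ridQ := TensorProduct.AlgebraTensorModule.rid Q P P
  have hL : ∀ y : S ⊗[R] C, TensorProduct.comm R S Q (f1.toLinearMap.lTensor S y) =
      ridQ (π'.toLinearMap.lTensor P (PolLaw.bcAlong θ.toLinearMap P (incl.toLinearMap.rTensor C y))) := fun y => by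
    induction y using TensorProduct.induction_on with
    | zero => simp
    | tmul s c => simp [incl, ridQ, f1, P, bcAlong_tmul, TensorProduct.smul_tmul']
    | add a b ha hb => simp only [map_add, ha, hb]
  change TensorProduct.comm R S Q (f1.toLinearMap.lTensor S _) = TensorProduct.comm R S Q (f2.toLinearMap.lTensor S _)
  rw [hL]
  have hcompat : incl.toLinearMap.rTensor C (γ.law.toFun' S z) = γ.law.toFun' P (incl.toLinearMap.rTensor R' z) :=
    congrFun (γ.law.isCompat' incl) z
  have hnorm : π'.toLinearMap.lTensor P (γ'.law.toFun' P (PolLaw.bcAlong (IsScalarTower.toAlgHom R R' Q').toLinearMap P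
      (incl.toLinearMap.rTensor R' z))) = (Algebra.norm P (PolLaw.bcAlong (IsScalarTower.toAlgHom R R' Q').toLinearMap P
      (incl.toLinearMap.rTensor R' z))) ⊗ₜ[Q] (1 : Q) :=
    (congrArg (fun F : PolLaw.MulLaw Q Q' Q d => F.law.toFun' P _) hπ').trans (PolLaw.normLaw_apply Q Q' d hd' P _)
  rw [hcompat, ← hθ, hnorm]
  have hR : f2.toLinearMap.lTensor S (γ.law.toFun' S z) = (Algebra.norm S z) ⊗ₜ[R] (1 : Q) := by
    have h := (congrArg (fun F : PolLaw.MulLaw R R' R d => F.law.toFun' S z) hπ).trans (PolLaw.normLaw_apply R R' d hd S z)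
    rw [show f2.toLinearMap = (Algebra.ofId R Q).toLinearMap ∘ₗ π.toLinearMap from rfl, LinearMap.lTensor_comp,
      LinearMap.comp_apply, show π.toLinearMap.lTensor S (γ.law.toFun' S z) = _ from h]
    simp
  rw [hR, TensorProduct.comm_tmul, TensorProduct.AlgebraTensorModule.rid_tmul, _root_.one_smul]
  obtain ⟨e, he⟩ := exists_pushoutEquiv (R := R) (R' := R') (Q := Q) (Q' := Q') P
  have hbc : ∀ w : P ⊗[R] R', PolLaw.bcAlong (IsScalarTower.toAlgHom R R' Q').toLinearMap P w = e w := fun w => by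
    induction w using TensorProduct.induction_on with
    | zero => simp
    | tmul q a => rw [bcAlong_tmul, he]; rfl
    | add a b ha hb => simp only [map_add, ha, hb]
  rw [hbc, Algebra.norm_eq_of_algEquiv, ← PolLaw.detAct_self, PolLaw.rTensor_algHom_apply, PolLaw.detAct_map,
    PolLaw.detAct_self]
  rfl

end Groth.Agent.H27PolLaw
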