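import Groth.Prelude.Def_W4c5normfunctorschNorm
import Groth.Agent.S17910
import Groth.Agent.H22Alg.PolLawTS
import Mathlib

/-!
# Symmetric tensors acting on the top exterior power of a finite free algebra
-/

set_option autoImplicit false
set_option linter.style.haveILetI false
universe u

open scoped TensorProduct

noncomputable section

namespace Groth.Agent.H27PolLaw

variable {R : Type u} [CommRing R] {B C : Type u} [CommRing B] [Algebra R B] [CommRing C] [Algebra R C] {d : ℕ}

theorem perm_singleAlgHom (σ : Equiv.Perm (Fin d)) (j : Fin d) :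
    (SymTen.perm R B d σ).comp (PiTensorProduct.singleAlgHom (A := fun _ : Fin d => B) j) =
      PiTensorProduct.singleAlgHom (A := fun _ : Fin d => B) (σ j) := by
  refine AlgHom.ext fun b => ?_
  simp only [AlgHom.comp_apply, PiTensorProduct.singleAlgHom_apply, MonoidHom.mulSingle_apply, SymTen.perm_tprod]
  congr 1
  funext i
  simp only [Pi.mulSingle_apply, Equiv.symm_apply_eq]

theorem map_perm_tpowLaw (σ : Equiv.Perm (Fin d)) (S : Type u) [CommSemiring S] [Algebra R S] (x : S ⊗[R] B) :
    (SymTen.perm R B d σ).toLinearMap.lTensor S ((SymTen.tpowLaw R B d).law.toFun' S x) =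
      (SymTen.tpowLaw R B d).law.toFun' S x := by
  simp only [SymTen.tpowLaw, PolLaw.MulLaw.prodMap_toFun', PolLaw.lTensor_algHom_apply, map_prod]
  refine Fintype.prod_equiv σ _ _ fun j => ?_
  rw [← AlgHom.comp_apply, ← Algebra.TensorProduct.map_comp, perm_singleAlgHom]
  rfl

/-- the values of a map compatible with the tensor power law are symmetric -/
theorem mem_TS (γ : PolLaw.MulLaw R B C d) (hγ : PolLaw.IsGammaD γ) (φ : C →ₐ[R] (⨂[R] _ : Fin d, B))
    (hφ : PolLaw.MulLaw.postcomp φ γ = SymTen.tpowLaw R B d) (c : C) : φ c ∈ SymTen.TS R B d := by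
  intro σ
  have h1 : PolLaw.MulLaw.postcomp ((SymTen.perm R B d σ).comp φ) γ = SymTen.tpowLaw R B d := by
    rw [← H22Alg.PL.postcomp_postcomp, hφ]
    exact H22Alg.PL.law_ext fun S _ _ x => map_perm_tpowLaw σ S x
  have h2 := (hγ _ (SymTen.tpowLaw R B d)).unique (congrArg PolLaw.MulLaw.law h1) (congrArg PolLaw.MulLaw.law hφ)
  rw [← SymTen.perm_apply]
  exact AlgHom.congr_fun h2 c

/-- the factorwise action of the tensor power of an algebra on itself is multiplication -/
theorem tpowAct_self (t x : ⨂[R] _ : Fin d, B) : SymTen.tpowAct R B B d t x = t * x := by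
  induction t using PiTensorProduct.induction_on with
  | add a b ha hb => simp only [map_add, LinearMap.add_apply, add_mul, ha, hb]
  | smul_tprod r f =>
    simp only [map_smul, LinearMap.smul_apply, smul_mul_assoc]
    congr 1
    induction x using PiTensorProduct.induction_on with
    | add a b ha hb => simp only [map_add, mul_add, ha, hb]
    | smul_tprod r g =>
      simp only [map_smul, mul_smul_comm]
      congr 1
      simp [SymTen.tpowAct, PiTensorProduct.tprod_mul_tprod]
      rfl

variable [Module.Free R B] [Module.Finite R B] (b : Module.Basis (Fin d) R B)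

/-- the determinant on the tensor power -/
def detT : (⨂[R] _ : Fin d, B) →ₗ[R] R := PiTensorProduct.lift b.det.toMultilinearMap

omit [Module.Free R B] [Module.Finite R B] in
theorem detT_tprod (f : Fin d → B) : detT b (PiTensorProduct.tprod R f) = b.det f := PiTensorProduct.lift.tprod _

omit [Module.Free R B] [Module.Finite R B] in
theorem detT_eq_zero {x : ⨂[R] _ : Fin d, B} (hx : x ∈ SymTen.altSpan R B d) : detT b x = 0 := by
  refine (Submodule.span_le (p := LinearMap.ker (detT b))).mpr ?_ hx
  rintro _ ⟨q, i, j, hij, hq, rfl⟩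
  change detT b _ = 0
  rw [detT_tprod]
  exact b.det.map_eq_zero_of_eq q hq hij

omit [Module.Free R B] [Module.Finite R B] in
theorem sub_detT_mem (x : ⨂[R] _ : Fin d, B) :
    x - detT b x • PiTensorProduct.tprod R b ∈ SymTen.altSpan R B d := by
  let mk := (SymTen.altSpan R B d).mkQ
  let f : B [⋀^Fin d]→ₗ[R] ((⨂[R] _ : Fin d, B) ⧸ SymTen.altSpan R B d) :=
    { mk.compMultilinearMap (PiTensorProduct.tprod R) with
      map_eq_zero_of_eq' := fun v i j h hne =>
        (Submodule.Quotient.mk_eq_zero _).mpr (Submodule.subset_span ⟨v, i, j, hne, h, rfl⟩) }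
  have hf : f = (LinearMap.toSpanSingleton R _ (f b)).compAlternatingMap b.det := by
    refine Module.Basis.ext_alternating b fun v hv => ?_
    let σ : Equiv.Perm (Fin d) := Equiv.ofBijective v (Finite.injective_iff_bijective.mp hv)
    have hσ : (fun i => b (v i)) = b ∘ σ := rfl
    rw [hσ, AlternatingMap.map_perm, LinearMap.compAlternatingMap_apply, AlternatingMap.map_perm, b.det_self]
    simp only [LinearMap.toSpanSingleton_apply, Units.smul_def, zsmul_eq_mul, _root_.mul_one, Int.cast_smul_eq_zsmul]
  rw [← Submodule.Quotient.mk_eq_zero, Submodule.Quotient.mk_sub, Submodule.Quotient.mk_smul, sub_eq_zero]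
  induction x using PiTensorProduct.induction_on with
  | add a c ha hc => rw [Submodule.Quotient.mk_add, ha, hc, map_add, add_smul]
  | smul_tprod r g =>
    rw [Submodule.Quotient.mk_smul, map_smul, smul_eq_mul, mul_smul, detT_tprod]
    exact congrArg (r • ·) (DFunLike.congr_fun hf g)

theorem mul_mem_altSpan {t x : ⨂[R] _ : Fin d, B} (ht : t ∈ SymTen.TS R B d) (hx : x ∈ SymTen.altSpan R B d) :
    t * x ∈ SymTen.altSpan R B d := by
  rw [← tpowAct_self]
  exact S17910.result R B B d t ht x hx

theorem detT_mul {t : ⨂[R] _ : Fin d, B} (ht : t ∈ SymTen.TS R B d) (x : ⨂[R] _ : Fin d, B) :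
    detT b (t * x) = detT b (t * PiTensorProduct.tprod R b) * detT b x := by
  have h := detT_eq_zero b (mul_mem_altSpan ht (sub_detT_mem b x))
  rw [mul_sub, mul_smul_comm, map_sub, map_smul, sub_eq_zero, smul_eq_mul] at h
  rw [h, mul_comm]

/-- the scalar by which symmetric tensors act on the top exterior power -/
def psi : SymTen.TS R B d →ₐ[R] R :=
  AlgHom.ofLinearMap
    ((detT b).comp ((LinearMap.mulRight R (PiTensorProduct.tprod R b)).comp (SymTen.TS R B d).val.toLinearMap))
    (by
      change detT b ((1 : ⨂[R] _ : Fin d, B) * PiTensorProduct.tprod R b) = 1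
      rw [_root_.one_mul, detT_tprod, b.det_self])
    (fun s t => by
      change detT b (((s : ⨂[R] _ : Fin d, B) * (t : ⨂[R] _ : Fin d, B)) * PiTensorProduct.tprod R b) =
        detT b ((s : ⨂[R] _ : Fin d, B) * PiTensorProduct.tprod R b) *
          detT b ((t : ⨂[R] _ : Fin d, B) * PiTensorProduct.tprod R b)
      rw [_root_.mul_assoc]
      exact detT_mul b s.2 _)

theorem psi_apply (t : SymTen.TS R B d) :
    psi b t = detT b ((t : ⨂[R] _ : Fin d, B) * PiTensorProduct.tprod R b) := rfl

omit [Module.Free R B] [Module.Finite R B] in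
/-- determinants over test algebras through products of single factors -/
theorem baseChange_detT_prod (S : Type u) [CommRing S] [Algebra R S] (w : Fin d → S ⊗[R] B) :
    TensorProduct.AlgebraTensorModule.rid R S S ((detT b).baseChange S
      (∏ j, Algebra.TensorProduct.map (AlgHom.id S S)
        (PiTensorProduct.singleAlgHom (A := fun _ : Fin d => B) j) (w j))) =
      (Algebra.TensorProduct.basis S b).det w := by
  classical
  let L : MultilinearMap S (fun _ : Fin d => S ⊗[R] B) S :=
    ((TensorProduct.AlgebraTensorModule.rid R S S).toLinearMap ∘ₗ (detT b).baseChange S).compMultilinearMap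
      ((MultilinearMap.mkPiAlgebra S (Fin d) (S ⊗[R] (⨂[R] _ : Fin d, B))).compLinearMap fun j : Fin d =>
        (Algebra.TensorProduct.map (AlgHom.id S S)
          (PiTensorProduct.singleAlgHom (R := R) (A := fun _ : Fin d => B) j)).toLinearMap)
  suffices h : L = (Algebra.TensorProduct.basis S b).det.toMultilinearMap from DFunLike.congr_fun h w
  refine Module.Basis.ext_multilinear (fun _ => Algebra.TensorProduct.basis S b) fun v => ?_
  change TensorProduct.AlgebraTensorModule.rid R S S ((detT b).baseChange S (∏ j : Fin d, _)) = _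
  simp only [AlgHom.toLinearMap_apply, Algebra.TensorProduct.basis_apply, Algebra.TensorProduct.map_tmul,
    AlgHom.id_apply]
  have hprod : ∏ j, (1 : S) ⊗ₜ[R] (PiTensorProduct.singleAlgHom (A := fun _ : Fin d => B) j (b (v j))) =
      (1 : S) ⊗ₜ[R] PiTensorProduct.tprod R (fun j => b (v j)) := by
    have e := map_prod (Algebra.TensorProduct.includeRight : (⨂[R] _ : Fin d, B) →ₐ[R] S ⊗[R] _)
      (fun j => PiTensorProduct.singleAlgHom (A := fun _ : Fin d => B) j (b (v j))) Finset.univ
    simp only [Algebra.TensorProduct.includeRight_apply] at e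
    rw [← e]
    congr 1
    simp only [PiTensorProduct.singleAlgHom_apply, MonoidHom.mulSingle_apply]
    rw [← PiTensorProduct.tprod_prod]
    exact congrArg (PiTensorProduct.tprod R) (Finset.univ_prod_mulSingle (fun j : Fin d => b (v j)))
  rw [hprod, LinearMap.baseChange_tmul, TensorProduct.AlgebraTensorModule.rid_tmul, detT_tprod,
    AlternatingMap.coe_multilinearMap, Module.Basis.det_apply, Module.Basis.det_apply, ← Algebra.algebraMap_eq_smul_one,
    RingHom.map_det]
  congr 1
  ext i j
  rcases eq_or_ne (v j) i with h | h <;>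
    simp [Module.Basis.toMatrix_apply, Algebra.TensorProduct.basis_repr_tmul, h]

include b in
/-- the symmetric tensor attached to an element of the divided power algebra acts through the norm -/
theorem tpowAct_sub_mem (γ : PolLaw.MulLaw R B C d) (hγ : PolLaw.IsGammaD γ) (φ : C →ₐ[R] (⨂[R] _ : Fin d, B))
    (hφ : PolLaw.MulLaw.postcomp φ γ = SymTen.tpowLaw R B d) (hd : Module.finrank R B = d)
    (π : C →ₐ[R] R) (hπ : PolLaw.MulLaw.postcomp π γ = PolLaw.normLaw R B d hd)
    (c : C) (x : ⨂[R] _ : Fin d, B) :
    SymTen.tpowAct R B B d (φ c) x - π c • x ∈ SymTen.altSpan R B d := by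

  let φ' : C →ₐ[R] SymTen.TS R B d := φ.codRestrict _ (mem_TS γ hγ φ hφ)
  have hlaw : PolLaw.MulLaw.postcomp ((psi b).comp φ') γ = PolLaw.normLaw R B d hd := by
    refine H22Alg.PL.law_ext fun S _ _ z => ?_
    letI : CommRing S := { Algebra.semiringToRing R, ‹CommSemiring S› with }
    let e0 : ⨂[R] _ : Fin d, B := PiTensorProduct.tprod R b
    let ιj := fun j : Fin d => Algebra.TensorProduct.map (AlgHom.id S S)
      (PiTensorProduct.singleAlgHom (R := R) (A := fun _ : Fin d => B) j)
    have hlin : ((psi b).comp φ').toLinearMap = (detT b ∘ₗ LinearMap.mulRight R e0) ∘ₗ φ.toLinearMap := rfl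
    refine Eq.trans ?_ (PolLaw.normLaw_apply R B d hd S z).symm
    change ((psi b).comp φ').toLinearMap.lTensor S (γ.law.toFun' S z) = _
    rw [hlin, LinearMap.lTensor_comp, LinearMap.comp_apply,
      show φ.toLinearMap.lTensor S (γ.law.toFun' S z) = ∏ j, ιj j z from
        congrArg (fun F : PolLaw.MulLaw R B _ d => F.law.toFun' S z) hφ]
    have hmul : ∀ y : S ⊗[R] (⨂[R] _ : Fin d, B),
        (LinearMap.mulRight R e0).lTensor S y = y * ((1 : S) ⊗ₜ[R] e0) := fun y => by
      induction y using TensorProduct.induction_on with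
      | zero => simp
      | tmul s t => simp [Algebra.TensorProduct.tmul_mul_tmul]
      | add a c ha hc => simp only [map_add, add_mul, ha, hc]
    have he0 : ((1 : S) ⊗ₜ[R] e0) = ∏ j, ιj j ((1 : S) ⊗ₜ[R] b j) := by
      have e := map_prod (Algebra.TensorProduct.includeRight : (⨂[R] _ : Fin d, B) →ₐ[R] S ⊗[R] _)
        (fun j => PiTensorProduct.singleAlgHom (A := fun _ : Fin d => B) j (b j)) Finset.univ
      simp only [Algebra.TensorProduct.includeRight_apply] at e
      simp only [ιj, Algebra.TensorProduct.map_tmul, AlgHom.id_apply]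
      rw [← e]
      congr 1
      simp only [PiTensorProduct.singleAlgHom_apply, MonoidHom.mulSingle_apply]
      rw [← PiTensorProduct.tprod_prod]
      exact (congrArg (PiTensorProduct.tprod R) (Finset.univ_prod_mulSingle (fun j : Fin d => b j))).symm
    rw [LinearMap.lTensor_comp, LinearMap.comp_apply, hmul, he0, ← Finset.prod_mul_distrib]
    have hdet : (Algebra.TensorProduct.basis S b).det (fun j => z * ((1 : S) ⊗ₜ[R] b j)) = Algebra.norm S z := by
      rw [Algebra.norm_apply]
      have e : (fun j => z * ((1 : S) ⊗ₜ[R] b j)) =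
          Algebra.lmul S (S ⊗[R] B) z ∘ Algebra.TensorProduct.basis S b := funext fun j => by simp
      rw [e, Module.Basis.det_comp, Module.Basis.det_self, _root_.mul_one]
    have hprod := baseChange_detT_prod b S (fun j => z * ((1 : S) ⊗ₜ[R] b j))
    rw [hdet] at hprod
    simp only [map_mul] at hprod
    have hrid : ∀ y : S ⊗[R] R, y = TensorProduct.AlgebraTensorModule.rid R S S y ⊗ₜ[R] (1 : R) := fun y => by
      induction y using TensorProduct.induction_on with
      | zero => simp
      | tmul s r => simp [TensorProduct.smul_tmul]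
      | add a c ha hc => rw [map_add, TensorProduct.add_tmul, ← ha, ← hc]
    refine (hrid _).trans (congrArg (· ⊗ₜ[R] (1 : R)) ?_)
    exact (congrArg _ (congrFun (LinearMap.baseChange_eq_ltensor (A := S) (f := detT b)) _).symm).trans hprod
  have hc : π c = detT b (φ c * PiTensorProduct.tprod R b) := by
    have := (hγ R (PolLaw.normLaw R B d hd)).unique (congrArg PolLaw.MulLaw.law hπ) (congrArg PolLaw.MulLaw.law hlaw)
    exact AlgHom.congr_fun this c
  rw [tpowAct_self]
  have h1 := mul_mem_altSpan (mem_TS γ hγ φ hφ c) (sub_detT_mem b x)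
  have h2 := Submodule.smul_mem _ (detT b x) (sub_detT_mem b (φ c * PiTensorProduct.tprod R b))
  have h3 := Submodule.smul_mem _ (π c) (sub_detT_mem b x)
  rw [← hc] at h2
  convert sub_mem (add_mem h1 h2) h3 using 1
  rw [mul_sub, mul_smul_comm, smul_sub, smul_sub, smul_comm (π c) (detT b x)]
  abel

end Groth.Agent.H27PolLaw
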